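import Groth.Agent.L23.UHRep.Sch
import Groth.Agent.L23.IntCover.Main
import Groth.Agent.L23.MorCalc
import Groth.Agent.L23.Compact
import Groth.Agent.L19.IntegralHom
import Groth.Agent.S10044
import Groth.Agent.S10340
import Groth.Agent.S10350

/-!
# Separated universal homeomorphisms of algebraic spaces
-/

universe u

open CategoryTheory CategoryTheory.Limits AlgebraicGeometry Opposite AlgSp TopologicalSpace

set_option backward.isDefEq.respectTransparency.types false
set_option backward.isDefEq.respectTransparency false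
set_option linter.style.haveILetI false

namespace Groth.L23.UHRep

variable {S : Scheme.{u}}

/-- The fibres of an integral morphism from a scheme have no specializations. -/
theorem eq_of_specializes_integral [QuasiSeparatedSpace S] {W : Space S} (hqs : IsQuasiSeparatedSp W.obj)
    {Y : Over S} {g : (yon S).obj Y ⟶ W.obj} (hg : RepWith @IsIntegralHom g) {y y' : Y.left} (h : y ⤳ y')
    (he : Points.ofPt g y = Points.ofPt g y') : y = y' := by
  obtain ⟨U, a, ha, has⟩ := W.property.atlas
  obtain ⟨P, e, i, sq⟩ := exists_isPullback_of_representable hg.1 a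
  haveI : IsIntegralHom i.left := repWith_prop hg sq
  haveI : Etale e.left := repWith_prop ha sq.flip
  haveI : Surjective e.left := repWith_prop has sq.flip
  obtain ⟨p', rfl⟩ := e.left.surjective y'
  obtain ⟨p, hp, rfl⟩ := Flat.generalizingMap e.left h
  have hm : ∀ p, Points.ofPt g (e.left p) = Points.ofPt a (i.left p) := fun p => by
    rw [← ofPt_comp, ← ofPt_comp, sq.w]
  have hu := Groth.Agent.S10340.result W (Groth.Agent.S10350.result W hqs) a ha (i.left p') (i.left p)
    (by rw [← hm, ← hm, he]) (hp.map i.left.continuous)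
  rw [Groth.L19.eq_of_specializes_of_isIntegralHom i.left hp hu.symm]

/-- A separated universal homeomorphism to an affine scheme has affine source. -/
theorem exists_iso_affine [QuasiSeparatedSpace S] (W : Space S) (hqs : IsQuasiSeparatedSp W.obj) {Z : Over S}
    [IsAffine Z.left] {p : W.obj ⟶ (yon S).obj Z} (hsep : IsSeparatedMor p) (hh : IsUnivHomeoMor p) :
    ∃ (T : Over S), IsAffine T.left ∧ Nonempty ((yon S).obj T ≅ W.obj) := by
  have hbij : IsHomeomorph (Points.map p) :=
    hh (IsAlgSpace.yon_obj Z) (𝟙 _) (𝟙 _) p (IsPullback.of_horiz_isIso ⟨by simp⟩)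
  have hpc : IsUnivClosedMor p := fun T T' hT k fst snd sq => (hh hT k fst snd sq).isClosedMap
  haveI : CompactSpace (Points ((yon S).obj Z)) := compactSpace_of_qcSp isQuasiCompactSp_of_compactSpace
  have hqc : IsQuasiCompactSp W.obj :=
    qcSp_of_compactSpace W.property (hbij.homeomorph.symm.compactSpace)
  obtain ⟨U, a, ha, has⟩ := W.property.atlas
  obtain ⟨Y, g, hg, hgs, -⟩ := IntCover.exists_scheme W.property hqc hqs a ha has
  obtain ⟨h, hh'⟩ := (yon S).map_surjective (g ≫ p)
  have hgc : IsUnivClosedMor g :=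
    (repWith_universallyClosed_iff hg.1).1 (repWith_mono (fun φ (_ : IsIntegralHom φ) => by infer_instance) hg)
  have hgsep : IsSeparatedMor g :=
    (isSeparatedMor_iff hg.1).2 (repWith_mono (fun φ (_ : IsIntegralHom φ) => by infer_instance) hg)
  haveI : IsSeparated h.left := (isSeparatedMor_yon_map_iff h).1 (hh' ▸ separated_comp hgsep hsep)
  haveI : UniversallyClosed h.left := by
    have : IsUnivClosedMor ((yon S).map h) :=
      hh' ▸ univClosed_comp W.property (IsAlgSpace.yon_obj Z) hgc hpc
    exact (repWith_yon_map_iff _ _).1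
      ((repWith_universallyClosed_iff ((IsAlgSpace.yon_obj Z).representable_from_yon _)).2 this)
  haveI : IsAffine Y.left := isAffine_of_univClosed h.left fun y y' hy e => by
    refine eq_of_specializes_integral hqs hg hy (hbij.bijective.1 ?_)
    rw [Points.map_ofPt, Points.map_ofPt, ← hh', ofPt_map, ofPt_map, e]
  exact Groth.Agent.S10044.result S (X := ⟨(yon S).obj Y, IsAlgSpace.yon_obj Y⟩) (Y := W)
    (ObjectProperty.homMk g) (surjective_map_of_repWith hgs) hgc ⟨Y, inferInstance, ⟨Iso.refl _⟩⟩

/-- Separated universal homeomorphisms are integral. -/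
theorem isIntegralMor_of_univHomeo [QuasiSeparatedSpace S] {X Y : Space S} (hX : IsQuasiSeparatedSp X.obj)
    (hY : IsQuasiSeparatedSp Y.obj) (f : X ⟶ Y) (hsep : IsSeparatedMor f.hom) (hh : IsUnivHomeoMor f.hom) :
    IsIntegralMor f.hom := by
  intro Z hZ g
  have sq := IsPullback.of_hasPullback f.hom g
  have hZqs : IsQuasiSeparatedSp ((yon S).obj Z) := by
    haveI : QuasiSeparated Z.hom := inferInstance
    exact (repWith_diag_yon_iff _ _).2 inferInstance
  obtain ⟨T, hT, ⟨θ⟩⟩ := exists_iso_affine
    ⟨pullback f.hom g, isAlgSpace_of_isPullback Y.property.diag X.property (IsAlgSpace.yon_obj Z) sq⟩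
    (isQuasiSeparatedSp_of_isPullback sq hX hY hZqs) (Z := Z) (p := pullback.snd f.hom g)
    (separated_of_isPullback sq hsep) (univSp_of_isPullback sq hh)
  obtain ⟨i, hi⟩ := (yon S).map_surjective (θ.hom ≫ pullback.snd f.hom g)
  have sqT : IsPullback (θ.hom ≫ pullback.fst f.hom g) ((yon S).map i) f.hom g :=
    sq.of_iso θ.symm (Iso.refl _) (Iso.refl _) (Iso.refl _) (by simp) (by simp [hi]) (by simp) (by simp)
  refine ⟨T, i, _, sqT, hT, ?_⟩
  have hc : IsUnivClosedMor ((yon S).map i) :=
    univSp_of_isPullback sqT fun T T' hT k fst snd sq => (hh hT k fst snd sq).isClosedMap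
  refine IsIntegralHom.iff_universallyClosed_and_isAffineHom.2
    ⟨(repWith_yon_map_iff _ _).1
      ((repWith_universallyClosed_iff ((IsAlgSpace.yon_obj Z).representable_from_yon _)).2 hc),
      isAffineHom_of_isAffine _⟩

end Groth.L23.UHRep
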