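import Groth.Agent.S7383
import Groth.Agent.S0592
import Mathlib.AlgebraicGeometry.ZariskisMainTheorem
import Mathlib.AlgebraicGeometry.IdealSheaf.Subscheme
import Mathlib.AlgebraicGeometry.AffineTransitionLimit

/-!
# Universally closed separated schemes with zero-dimensional fibres over an affine scheme are affine
-/

universe u

open CategoryTheory CategoryTheory.Limits AlgebraicGeometry Opposite TopologicalSpace

set_option backward.isDefEq.respectTransparency.types false
set_option backward.isDefEq.respectTransparency false
set_option linter.style.haveILetI false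

namespace Groth.L23.UHRep

variable {Y Z : Scheme.{u}}

theorem isAffine_of_proper_fibres (g : Y ⟶ Z) [IsAffine Z] [LocallyOfFiniteType g] [IsSeparated g]
    [UniversallyClosed g] (hfib : ∀ y y', y ⤳ y' → g y = g y' → y = y') : IsAffine Y := by
  haveI : IsProper g := {}
  haveI : LocallyQuasiFinite g := by
    refine (locallyQuasiFinite_iff_isDiscrete_preimage_singleton (f := g)).2 fun z => ?_
    haveI : LocallyOfFiniteType (g.fiberToSpecResidueField z) :=
      MorphismProperty.pullback_snd _ _ inferInstance
    haveI : IsLocallyNoetherian (g.fiber z) :=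
      LocallyOfFiniteType.isLocallyNoetherian (g.fiberToSpecResidueField z)
    haveI : IsNoetherian (g.fiber z) := {}
    have heq : ∀ a b : g.fiber z, a ⤳ b → a = b := fun a b hab => by
      refine (g.fiberι z).injective (hfib _ _ (hab.map (g.fiberι z).continuous) ?_)
      have hr : ∀ c, g (g.fiberι z c) = z := fun c => by
        have : g.fiberι z c ∈ Set.range (g.fiberι z) := ⟨c, rfl⟩
        rwa [Scheme.Hom.range_fiberι] at this
      rw [hr, hr]
    haveI : T1Space (g.fiber z) := ⟨fun a => isClosed_of_closure_subset fun b hb =>
      (heq a b (specializes_iff_mem_closure.2 hb)).symm⟩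
    haveI : Finite (g.fiber z) := by
      refine Set.finite_univ_iff.1 ?_
      rw [← sUnion_irreducibleComponents]
      refine Set.Finite.sUnion NoetherianSpace.finite_irreducibleComponents fun T hT => ?_
      obtain ⟨a, ha⟩ := QuasiSober.sober hT.1 (isClosed_of_mem_irreducibleComponents T hT)
      rw [← ha.def, closure_singleton]
      exact Set.finite_singleton a
    rw [← Scheme.Hom.range_fiberι]
    exact IsDiscrete.image (isDiscrete_univ_iff.2 inferInstance) (g.fiberι z).isEmbedding.isInducing |>.mono (by
      rw [Set.image_univ])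
  haveI : IsFinite g := IsFinite.of_isProper_of_locallyQuasiFinite g
  exact isAffine_of_isAffineHom g

/-- A separated universally closed scheme with zero dimensional fibres over an affine scheme is affine. -/
theorem isAffine_of_univClosed (g : Y ⟶ Z) [IsAffine Z] [IsSeparated g] [UniversallyClosed g]
    (hfib : ∀ y y', y ⤳ y' → g y = g y' → y = y') : IsAffine Y := by
  haveI : CompactSpace Y := QuasiCompact.compactSpace_of_compactSpace g
  haveI : IsSeparated (Limits.IsTerminal.from specULiftZIsTerminal Y) := by
    rw [show Limits.IsTerminal.from specULiftZIsTerminal Y =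
      g ≫ Limits.IsTerminal.from specULiftZIsTerminal Z from specULiftZIsTerminal.hom_ext _ _]
    infer_instance
  haveI : QuasiSeparatedSpace Y := AlgebraicGeometry.quasiSeparatedSpace_of_quasiSeparated g
  obtain ⟨I, _, _, _, D, c, hc, hD, haff, ⟨e⟩⟩ := Groth.Agent.S7383.result g
  let D' := D ⋙ Over.forget Z
  let c' := (Over.forget Z).mapCone c
  have hc' : IsLimit c' := isLimitOfPreserves (Over.forget Z) hc
  haveI : ∀ (i j : Iᵒᵖ) (f : i ⟶ j), IsAffineHom (D'.map f) := haff
  haveI : ∀ i, CompactSpace (D'.obj i) := fun i => by
    have := (hD i).2.1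
    exact QuasiCompact.compactSpace_of_compactSpace (D.obj i).hom
  haveI : ∀ i, QuasiSeparatedSpace (D'.obj i) := fun i => by
    have := (hD i).2.2
    exact AlgebraicGeometry.quasiSeparatedSpace_of_quasiSeparated (D.obj i).hom
  haveI : IsIso e.inv.left := inferInstanceAs (IsIso ((Over.forget Z).map e.inv))
  haveI : IsSeparated (Limits.IsTerminal.from specULiftZIsTerminal c'.pt) := by
    rw [show Limits.IsTerminal.from specULiftZIsTerminal c'.pt =
      e.hom.left ≫ Limits.IsTerminal.from specULiftZIsTerminal Y from specULiftZIsTerminal.hom_ext _ _]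
    haveI : IsIso e.hom.left := inferInstanceAs (IsIso ((Over.forget Z).map e.hom))
    infer_instance
  obtain ⟨i, hi⟩ := Groth.Agent.S0592.result D' c' hc'
  haveI := (hD i).1
  haveI := hi i (𝟙 i)
  haveI : IsSeparated (D.obj i).hom := by
    haveI : IsSeparated ((D.obj i).hom ≫ Limits.IsTerminal.from specULiftZIsTerminal Z) := by
      rw [show (D.obj i).hom ≫ Limits.IsTerminal.from specULiftZIsTerminal Z =
        Limits.IsTerminal.from specULiftZIsTerminal (D'.obj i) from specULiftZIsTerminal.hom_ext _ _]
      infer_instance
    exact IsSeparated.of_comp _ (Limits.IsTerminal.from specULiftZIsTerminal Z)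
  let π : Y ⟶ (D.obj i).left := e.inv.left ≫ c'.π.app i
  haveI : IsAffineHom π := by
    haveI := isAffineHom_π_app _ _ hc' i
    exact inferInstanceAs (IsAffineHom (e.inv.left ≫ c'.π.app i))
  have hπ : π ≫ (D.obj i).hom = g := Over.w (e.inv ≫ c.π.app i)
  haveI : UniversallyClosed π := by
    haveI : UniversallyClosed (π ≫ (D.obj i).hom) := hπ ▸ inferInstance
    exact UniversallyClosed.of_comp_of_isSeparated π (D.obj i).hom
  haveI : UniversallyClosed π.toImage := by
    haveI : UniversallyClosed (π.toImage ≫ π.imageι) := by rw [Scheme.Hom.toImage_imageι]; infer_instance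
    exact UniversallyClosed.of_comp_of_isSeparated π.toImage π.imageι
  haveI : Surjective π.toImage := ⟨fun t => by
    have := π.toImage.denseRange.closure_range
    rw [π.toImage.isClosedMap.isClosed_range.closure_eq] at this
    exact this.ge (Set.mem_univ t)⟩
  have hg : π.toImage ≫ π.imageι ≫ (D.obj i).hom = g := by rw [Scheme.Hom.toImage_imageι_assoc, hπ]
  haveI : UniversallyClosed (π.imageι ≫ (D.obj i).hom) := by
    haveI : UniversallyClosed (π.toImage ≫ π.imageι ≫ (D.obj i).hom) := hg.symm ▸ inferInstance
    exact UniversallyClosed.of_comp_surjective π.toImage _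
  haveI : IsAffine π.image := isAffine_of_proper_fibres (π.imageι ≫ (D.obj i).hom) fun t t' h he => by
    obtain ⟨y, rfl⟩ := π.toImage.surjective t
    obtain ⟨y', hy', rfl⟩ := π.toImage.isClosedMap.specializingMap h
    rw [hfib y y' hy' (by
      rw [← hg, Scheme.Hom.comp_apply, Scheme.Hom.comp_apply]
      exact he)]
  haveI : IsAffineHom π.toImage := by
    haveI : IsAffineHom (π.toImage ≫ π.imageι) := by rw [Scheme.Hom.toImage_imageι]; infer_instance
    exact IsAffineHom.of_comp π.toImage π.imageι
  exact isAffine_of_isAffineHom π.toImage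

end Groth.L23.UHRep
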